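import Cfsg.Agent.Lib.Helper50.CAI.Defs

/-!
# Project CAI (S2202): package [REG]

`Cz P` acts regularly on the Sylow 2-subgroups different from `P`.
-/

set_option autoImplicit false

namespace Cfsg.Agent.Lib.Helper77.CAI

open Cfsg.Agent.Lib.Helper50.CAI

universe u

section aux

variable {G : Type u} [Group G]

/-- Elements of `Cz P` fix `P`. -/
theorem cz_smul {P : Sylow 2 G} {c : G} (hc : c ∈ Cz P) : c • P = P := by
  rw [Sylow.smul_eq_iff_mem_normalizer]
  exact Subgroup.centralizer_le_normalizer _ hc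

theorem mem_Dz {P Q : Sylow 2 G} {x : G} : x ∈ Dz P Q ↔ x • P = P ∧ x • Q = Q := by
  unfold Dz
  rw [Subgroup.mem_inf, MulAction.mem_stabilizer_iff, MulAction.mem_stabilizer_iff]

/-- If `d` fixes `P` then conjugation by `d` preserves `Cz P`. -/
theorem conj_mem_Cz {P : Sylow 2 G} (hP : BasicFacts P) {d x : G} (hd : d • P = P)
    (hx : x ∈ Cz P) : d * x * d⁻¹ ∈ Cz P := by
  have h1 : d⁻¹ • P = P := by
    rw [inv_smul_eq_iff, hd]
  have h2 := (hP.conjC d⁻¹ x)
  rw [h1, inv_inv] at h2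
  exact h2.1 hx

end aux

/-- [REG] -/
theorem pkgReg (hB : PkgBasic.{u}) : PkgReg.{u} := by
  intro G _ _ hH hBTI hSw hInv hFix P Q Q' hQ hQ'
  have hP : BasicFacts P := hB hH P
  have hIQ := hInv P Q hQ.symm
  have hIQ' := hInv P Q' hQ'.symm
  -- a non-identity element of `Dz P Q'`
  have hcard : 3 ≤ Nat.card ↥(Dz P Q') := by rw [hIQ'.card]; exact hP.three
  obtain ⟨d', hd', hd'1⟩ : ∃ d' ∈ Dz P Q', d' ≠ 1 := by
    by_contra hcon
    have : Dz P Q' = ⊥ := by
      rw [Subgroup.eq_bot_iff_forall]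
      intro x hx
      by_contra hx1
      exact hcon ⟨x, hx, hx1⟩
    rw [this, Subgroup.card_bot] at hcard
    omega
  have hd'P : d' • P = P := (mem_Dz.1 hd').1
  have hd'Q' : d' • Q' = Q' := (mem_Dz.1 hd').2
  obtain ⟨d, hd, c, hc, hdc⟩ := hIQ.prod d' hd'P
  have hdP : d • P = P := (mem_Dz.1 hd).1
  have hdQ : d • Q = Q := (mem_Dz.1 hd).2
  have hd1 : d ≠ 1 := by
    rintro rfl
    rw [one_mul] at hdc
    exact hd'1 (hIQ'.triv d' hd' (hdc ▸ hc))
  -- the map `y ↦ y d y⁻¹ d⁻¹` on `Cz P`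
  let f : ↥(Cz P) → ↥(Cz P) := fun y =>
    ⟨(y : G) * (d * (y : G)⁻¹ * d⁻¹),
      (Cz P).mul_mem y.2 (conj_mem_Cz hP hdP ((Cz P).inv_mem y.2))⟩
  have hfinj : Function.Injective f := by
    intro y1 y2 h
    have h' : (y1 : G) * (d * (y1 : G)⁻¹ * d⁻¹) = (y2 : G) * (d * (y2 : G)⁻¹ * d⁻¹) :=
      congrArg Subtype.val h
    -- `y := y2⁻¹ y1` commutes with `d`
    set y : G := (y2 : G)⁻¹ * (y1 : G) with hy
    have hyC : y ∈ Cz P := (Cz P).mul_mem ((Cz P).inv_mem y2.2) y1.2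
    have hcomm : y * d = d * y := by
      have h1 : (y1 : G) * d * (y1 : G)⁻¹ = (y2 : G) * d * (y2 : G)⁻¹ := by
        have := congrArg (fun z => z * d) h'
        simpa [mul_assoc] using this
      have h2 : (y2 : G)⁻¹ * ((y1 : G) * d * (y1 : G)⁻¹) * (y1 : G)
          = (y2 : G)⁻¹ * ((y2 : G) * d * (y2 : G)⁻¹) * (y1 : G) := by rw [h1]
      rw [hy]
      simpa [mul_assoc] using h2
    have hyP : y • P = P := cz_smul hyC
    have hfix : d • (y • Q) = y • Q := by
      rw [← mul_smul, ← hcomm, mul_smul, hdQ]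
    have hyQ : y • Q = Q := by
      rcases hFix P Q hQ.symm d hd hd1 (y • Q) hfix with h | h
      · exfalso
        apply hQ
        have : y • Q = y • P := by rw [h, hyP]
        exact smul_left_cancel y this
      · exact h
    have hy1 : y = 1 := hIQ.triv y (mem_Dz.2 ⟨hyP, hyQ⟩) hyC
    apply Subtype.ext
    have : (y2 : G)⁻¹ * (y1 : G) = 1 := hy1
    have h3 : (y1 : G) = (y2 : G) := by
      have := congrArg (fun z => (y2 : G) * z) this
      simpa using this
    exact h3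
  have hfsurj : Function.Surjective f := Finite.injective_iff_surjective.1 hfinj
  obtain ⟨y, hy⟩ := hfsurj ⟨d * c * d⁻¹, conj_mem_Cz hP hdP hc⟩
  have hy' : (y : G) * (d * (y : G)⁻¹ * d⁻¹) = d * c * d⁻¹ := congrArg Subtype.val hy
  have hyd : (y : G) * d * (y : G)⁻¹ = d' := by
    rw [hdc]
    have := congrArg (fun z => z * d) hy'
    simpa [mul_assoc] using this
  have hyP : (y : G) • P = P := cz_smul y.2
  have hfix' : d' • ((y : G) • Q) = (y : G) • Q := by
    rw [← hyd, ← mul_smul]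
    have : (y : G) * d * (y : G)⁻¹ * (y : G) = (y : G) * d := by group
    rw [this, mul_smul, hdQ]
  have hyQ : (y : G) • Q = Q' := by
    rcases hFix P Q' hQ'.symm d' hd' hd'1 ((y : G) • Q) hfix' with h | h
    · exfalso
      apply hQ
      have : (y : G) • Q = (y : G) • P := by rw [h, hyP]
      exact smul_left_cancel (y : G) this
    · exact h
  refine ⟨(y : G), y.2, hyQ, ?_⟩
  intro c' hc' hc'Q
  have hz : (y : G)⁻¹ * c' ∈ Cz P := (Cz P).mul_mem ((Cz P).inv_mem y.2) hc'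
  have hzQ : ((y : G)⁻¹ * c') • Q = Q := by
    rw [mul_smul, hc'Q, inv_smul_eq_iff, hyQ]
  have hz1 : (y : G)⁻¹ * c' = 1 := hIQ.triv _ (mem_Dz.2 ⟨cz_smul hz, hzQ⟩) hz
  have := congrArg (fun z => (y : G) * z) hz1
  simpa using this

end Cfsg.Agent.Lib.Helper77.CAI
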