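import Cfsg.Agent.Lib.Helper50.CAI.Defs
import Cfsg.Agent.Lib.Helper77.CAI.Reg

/-!
# Project CAI (S2202): package [ZAS]

`G` acts on its Sylow 2-subgroups as a Zassenhaus group.
-/

set_option autoImplicit false

namespace Cfsg.Agent.Lib.Helper77.CAI

open Cfsg.Agent.Lib.Helper50.CAI

universe u

section aux

variable {G : Type u} [Group G]

/-- two different involutions of `P`. -/
theorem exists_two_invol [Finite G] {P : Sylow 2 G} (hP : BasicFacts P) :
    ∃ s t : G, s ∈ (P : Subgroup G) ∧ orderOf s = 2 ∧ t ∈ (P : Subgroup G) ∧ orderOf t = 2 ∧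
      s ≠ t := by
  have h3 : 3 ≤ Nat.card {t : G // t ∈ (P : Subgroup G) ∧ orderOf t = 2} := hP.three
  have hnt : Nontrivial {t : G // t ∈ (P : Subgroup G) ∧ orderOf t = 2} := by
    rw [← Finite.one_lt_card_iff_nontrivial]
    omega
  obtain ⟨a, b, hab⟩ := hnt.exists_pair_ne
  exact ⟨a.1, b.1, a.2.1, a.2.2, b.2.1, b.2.2, fun h => hab (Subtype.ext h)⟩

/-- an involution of `P` fixes no other Sylow 2-subgroup. -/
theorem invol_fix_unique (hBF : ∀ R : Sylow 2 G, BasicFacts R) {P R : Sylow 2 G} {s : G}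
    (hs : s ∈ (P : Subgroup G)) (hs2 : orderOf s = 2) (h : s • R = R) : R = P := by
  by_contra hne
  have hsR : s ∈ (R : Subgroup G) := by
    refine (hBF R).fix2 s h ⟨1, ?_⟩
    rw [pow_one, ← hs2]
    exact pow_orderOf_eq_one s
  have h1 : s = 1 := (hBF P).ti R hne s hs hsR
  rw [h1, orderOf_one] at hs2
  omega

/-- an element of a Sylow 2-subgroup fixes it. -/
theorem mem_smul_self {P : Sylow 2 G} {s : G} (hs : s ∈ (P : Subgroup G)) : s • P = P := by
  rw [Sylow.smul_eq_iff_mem_normalizer]
  exact Subgroup.le_normalizer hs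

theorem invol_sq {s : G} (hs2 : orderOf s = 2) : s * s = 1 := by
  rw [← pow_two, ← hs2]
  exact pow_orderOf_eq_one s

theorem invol_ne_one {s : G} (hs2 : orderOf s = 2) : s ≠ 1 := by
  rintro rfl
  rw [orderOf_one] at hs2
  omega

/-- there is a second Sylow 2-subgroup. -/
theorem exists_ne_sylow (hH : Hyp G) (P : Sylow 2 G) : ∃ Q : Sylow 2 G, Q ≠ P := by
  by_contra hcon
  apply hH.nnorm P
  rw [← Subgroup.normalizer_eq_top_iff, eq_top_iff]
  intro g _
  have hg' : g • P = P := by
    by_contra hg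
    exact hcon ⟨g • P, hg⟩
  exact Sylow.smul_eq_iff_mem_normalizer.1 hg'

end aux

/-- [ZAS] -/
theorem pkgZas (hB : PkgBasic.{u}) : PkgZas.{u} := by
  intro G _ _ hH hBTI hZ
  have hBF : ∀ P : Sylow 2 G, BasicFacts P := fun P => hB hH P
  -- no non-identity element fixes three points
  have h3 : ∀ g : G, ∀ a b c : Sylow 2 G, a ≠ b → b ≠ c → a ≠ c → g • a = a → g • b = b →
      g • c = c → g = 1 := by
    intro g a b c hab hbc hac ha hb hc
    by_contra hg
    rcases hZ.fix2 a b hab g (mem_Dz.2 ⟨ha, hb⟩) hg c hc with h | h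
    · exact hac h.symm
    · exact hbc h.symm
  -- non-identity elements of `Cz P` move every other point
  have hmove : ∀ P Q : Sylow 2 G, Q ≠ P → ∀ c ∈ Cz P, c • Q = Q → c = 1 := by
    intro P Q hQ c hc hcQ
    obtain ⟨c0, _, _, huniq⟩ := hZ.reg P Q Q hQ hQ
    rw [huniq c hc hcQ, huniq 1 (Cz P).one_mem (one_smul _ _)]
  -- three different points
  obtain ⟨P⟩ : Nonempty (Sylow 2 G) := inferInstance
  obtain ⟨Q, hQP⟩ := exists_ne_sylow hH P
  obtain ⟨s, s', hs, hs2, hs', hs'2, hss'⟩ := exists_two_invol (hBF P)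
  have hsP : s • P = P := mem_smul_self hs
  have hsQ : s • Q ≠ Q := fun h =>
    invol_ne_one hs2 (hmove P Q hQP s ((hBF P).le hs) h)
  have hsQP : s • Q ≠ P := by
    intro h
    apply hQP
    have : s • Q = s • P := by rw [h, hsP]
    exact smul_left_cancel s this
  refine ⟨?_, ?_, h3, ?_, ?_⟩
  · -- faithful
    constructor
    intro g1 g2 h
    have hfix : ∀ a : Sylow 2 G, (g2⁻¹ * g1) • a = a := by
      intro a
      rw [mul_smul, h a, inv_smul_smul]
    have := h3 (g2⁻¹ * g1) P Q (s • Q) hQP.symm hsQ.symm hsQP.symm (hfix _) (hfix _) (hfix _)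
    have h' := congrArg (fun z => g2 * z) this
    simpa using h'
  · -- doubly transitive
    rw [MulAction.is_two_pretransitive_iff]
    intro a b c d hab hcd
    obtain ⟨g, hg⟩ := MulAction.exists_smul_eq G a c
    have hgb : g • b ≠ c := by
      intro h
      apply hab
      have : g • a = g • b := by rw [hg, h]
      exact smul_left_cancel g this
    obtain ⟨x, hx, hxb, _⟩ := hZ.reg c (g • b) d hgb hcd.symm
    refine ⟨x * g, ?_, ?_⟩
    · rw [mul_smul, hg]
      exact cz_smul hx
    · rw [mul_smul, hxb]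
  · -- some non-identity element fixes two points
    have hcard : 3 ≤ Nat.card ↥(Dz P Q) := by
      rw [(hZ.inv P Q hQP.symm).card]; exact (hBF P).three
    obtain ⟨d, hd, hd1⟩ : ∃ d ∈ Dz P Q, d ≠ 1 := by
      by_contra hcon
      have : Dz P Q = ⊥ := by
        rw [Subgroup.eq_bot_iff_forall]
        intro x hx
        by_contra hx1
        exact hcon ⟨x, hx, hx1⟩
      rw [this, Subgroup.card_bot] at hcard
      omega
    exact ⟨d, hd1, P, Q, hQP.symm, (mem_Dz.1 hd).1, (mem_Dz.1 hd).2⟩
  · -- no regular normal subgroup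
    intro N hN hNt
    by_contra hcon
    have hstab : ∀ a : Sylow 2 G, ∀ r ∈ N, r • a = a → r = 1 := by
      intro a r hr hra
      have h0 : MulAction.stabilizer N a = ⊥ := by
        by_contra h
        exact hcon ⟨a, h⟩
      have hmem : (⟨r, hr⟩ : N) ∈ MulAction.stabilizer N a := by
        rw [MulAction.mem_stabilizer_iff]
        exact hra
      rw [h0, Subgroup.mem_bot] at hmem
      exact congrArg Subtype.val hmem
    -- Claim A: an involution of `P` commutes with no non-identity element of `N`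
    have hA : ∀ t : G, t ∈ (P : Subgroup G) → orderOf t = 2 → ∀ r ∈ N, t * r = r * t → r = 1 := by
      intro t ht ht2 r hr hcomm
      have htP : t • P = P := mem_smul_self ht
      have hfix : t • (r • P) = r • P := by
        rw [← mul_smul, hcomm, mul_smul, htP]
      have hrP : r • P = P := invol_fix_unique hBF ht ht2 hfix
      exact hstab P r hr hrP
    -- Claim B: an involution of `P` inverts `N`
    have hBinv : ∀ t : G, t ∈ (P : Subgroup G) → orderOf t = 2 → ∀ r ∈ N, t * r * t = r⁻¹ := by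
      intro t ht ht2 r hr
      have htt : t * t = 1 := invol_sq ht2
      have htinv : t⁻¹ = t := inv_eq_of_mul_eq_one_right htt
      let f : ↥N → ↥N := fun x =>
        ⟨(x : G)⁻¹ * (t * (x : G) * t⁻¹), N.mul_mem (N.inv_mem x.2) (hN.conj_mem _ x.2 t)⟩
      have hfinj : Function.Injective f := by
        intro x1 x2 h
        have h' : (x1 : G)⁻¹ * (t * (x1 : G) * t⁻¹) = (x2 : G)⁻¹ * (t * (x2 : G) * t⁻¹) :=
          congrArg Subtype.val h
        have hcomm : t * ((x1 : G) * (x2 : G)⁻¹) = ((x1 : G) * (x2 : G)⁻¹) * t := by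
          calc t * ((x1 : G) * (x2 : G)⁻¹)
              = (x1 : G) * ((x1 : G)⁻¹ * (t * (x1 : G) * t⁻¹)) * t * (x2 : G)⁻¹ := by group
            _ = (x1 : G) * ((x2 : G)⁻¹ * (t * (x2 : G) * t⁻¹)) * t * (x2 : G)⁻¹ := by rw [h']
            _ = ((x1 : G) * (x2 : G)⁻¹) * t := by group
        have h1 := hA t ht ht2 _ (N.mul_mem x1.2 (N.inv_mem x2.2)) hcomm
        apply Subtype.ext
        exact mul_inv_eq_one.1 h1
      have hfsurj : Function.Surjective f := Finite.injective_iff_surjective.1 hfinj
      obtain ⟨x, hx⟩ := hfsurj ⟨r, hr⟩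
      have hx' : (x : G)⁻¹ * (t * (x : G) * t⁻¹) = r := congrArg Subtype.val hx
      rw [← hx', htinv]
      have : t * ((x : G)⁻¹ * (t * (x : G) * t)) * t = ((x : G)⁻¹ * (t * (x : G) * t))⁻¹ := by
        have e : ((x : G)⁻¹ * (t * (x : G) * t))⁻¹ = t⁻¹ * (x : G)⁻¹ * t⁻¹ * (x : G) := by group
        rw [e, htinv]
        calc t * ((x : G)⁻¹ * (t * (x : G) * t)) * t
            = t * (x : G)⁻¹ * t * (x : G) * (t * t) := by group
          _ = t * (x : G)⁻¹ * t * (x : G) := by rw [htt, mul_one]
      exact this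
    -- `s * s'` is an involution of `P` centralizing `N`
    have hss : s * s = 1 := invol_sq hs2
    have hs's' : s' * s' = 1 := invol_sq hs'2
    have hcomm : s * s' = s' * s := (hBF P).comm s ((hBF P).le hs) s' ((hBF P).le hs')
    have hu2 : orderOf (s * s') = 2 := by
      refine orderOf_eq_prime ?_ ?_
      · rw [pow_two]
        calc s * s' * (s * s') = s * (s' * s) * s' := by group
          _ = s * (s * s') * s' := by rw [hcomm]
          _ = (s * s) * (s' * s') := by group
          _ = 1 := by rw [hss, hs's', one_mul]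
      · intro h
        apply hss'
        have h1 : s' = s⁻¹ := (inv_eq_of_mul_eq_one_right h).symm
        rw [h1, inv_eq_of_mul_eq_one_right hss]
    have hN1 : ∀ r ∈ N, r = 1 := by
      intro r hr
      refine hA (s * s') ((P : Subgroup G).mul_mem hs hs') hu2 r hr ?_
      have e1 : s' * r * s' = r⁻¹ := hBinv s' hs' hs'2 r hr
      have e2 : s * r⁻¹ * s = r := by
        have := hBinv s hs hs2 r⁻¹ (N.inv_mem hr)
        rwa [inv_inv] at this
      calc s * s' * r = s * (s' * r * s') * s' := by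
            rw [show s * (s' * r * s') * s' = s * s' * r * (s' * s') by group, hs's', mul_one]
        _ = s * r⁻¹ * s' := by rw [e1]
        _ = (s * r⁻¹ * s) * s * s' := by
            rw [show (s * r⁻¹ * s) * s * s' = s * r⁻¹ * (s * s) * s' by group, hss, mul_one]
        _ = r * (s * s') := by rw [e2, mul_assoc]
    -- but `N` is transitive
    obtain ⟨n, hn⟩ := MulAction.exists_smul_eq N P Q
    have hn1 : (n : G) = 1 := hN1 n n.2
    have : (n : G) • P = Q := hn
    rw [hn1, one_smul] at this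
    exact hQP this.symm

end Cfsg.Agent.Lib.Helper77.CAI
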