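import Cfsg.Agent.Lib.Helper50.CAI.Defs
import Cfsg.Agent.Lib.Helper77.CAI.Reg
import Cfsg.Agent.Lib.Helper77.CAI.Zas

/-!
# Project CAI (S2202): package [NOHALL]

When all odd parts `Bz P` are trivial, no subgroup of odd order is transitive (by conjugation) on
the involutions.
-/

set_option autoImplicit false

namespace Cfsg.Agent.Lib.Helper77.CAI

open Cfsg.Agent.Lib.Helper50.CAI

universe u

section aux

variable {G : Type u} [Group G]

/-- For `1 ≠ d ∈ Dz P Q` and `c ∈ Cz P` the element `d * c` is conjugate to `d` under `Cz P`. -/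
theorem exists_conj_eq_mul [Finite G] {P Q : Sylow 2 G} (hP : BasicFacts P) (hI : InvFacts P Q)
    (hQ : Q ≠ P)
    (hFix : ∀ d ∈ Dz P Q, d ≠ 1 → ∀ R : Sylow 2 G, d • R = R → R = P ∨ R = Q)
    {d c : G} (hd : d ∈ Dz P Q) (hd1 : d ≠ 1) (hc : c ∈ Cz P) :
    ∃ y ∈ Cz P, y * d * y⁻¹ = d * c := by
  have hdP : d • P = P := (mem_Dz.1 hd).1
  have hdQ : d • Q = Q := (mem_Dz.1 hd).2
  let f : ↥(Cz P) → ↥(Cz P) := fun y =>
    ⟨(y : G) * (d * (y : G)⁻¹ * d⁻¹),
      (Cz P).mul_mem y.2 (conj_mem_Cz hP hdP ((Cz P).inv_mem y.2))⟩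
  have hfinj : Function.Injective f := by
    intro y1 y2 h
    have h' : (y1 : G) * (d * (y1 : G)⁻¹ * d⁻¹) = (y2 : G) * (d * (y2 : G)⁻¹ * d⁻¹) :=
      congrArg Subtype.val h
    set y : G := (y2 : G)⁻¹ * (y1 : G) with hy
    have hyC : y ∈ Cz P := (Cz P).mul_mem ((Cz P).inv_mem y2.2) y1.2
    have hcomm : y * d = d * y := by
      have h1 : (y1 : G) * d * (y1 : G)⁻¹ = (y2 : G) * d * (y2 : G)⁻¹ := by
        have := congrArg (fun z => z * d) h'
        simpa [mul_assoc] using this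
      have h2 : (y2 : G)⁻¹ * ((y1 : G) * d * (y1 : G)⁻¹) * (y1 : G)
          = (y2 : G)⁻¹ * ((y2 : G) * d * (y2 : G)⁻¹) * (y1 : G) := by rw [h1]
      rw [hy]
      simpa [mul_assoc] using h2
    have hyP : y • P = P := cz_smul hyC
    have hfix : d • (y • Q) = y • Q := by
      rw [← mul_smul, ← hcomm, mul_smul, hdQ]
    have hyQ : y • Q = Q := by
      rcases hFix d hd hd1 (y • Q) hfix with h | h
      · exfalso
        apply hQ
        have : y • Q = y • P := by rw [h, hyP]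
        exact smul_left_cancel y this
      · exact h
    have hy1 : y = 1 := hI.triv y (mem_Dz.2 ⟨hyP, hyQ⟩) hyC
    apply Subtype.ext
    have : (y2 : G)⁻¹ * (y1 : G) = 1 := hy1
    have h3 : (y1 : G) = (y2 : G) := by
      have := congrArg (fun z => (y2 : G) * z) this
      simpa using this
    exact h3
  have hfsurj : Function.Surjective f := Finite.injective_iff_surjective.1 hfinj
  obtain ⟨y, hy⟩ := hfsurj ⟨d * c * d⁻¹, conj_mem_Cz hP hdP hc⟩
  have hy' : (y : G) * (d * (y : G)⁻¹ * d⁻¹) = d * c * d⁻¹ := congrArg Subtype.val hy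
  refine ⟨(y : G), y.2, ?_⟩
  have := congrArg (fun z => z * d) hy'
  simpa [mul_assoc] using this

/-- The two-point stabilizer is abelian (it is inverted by an involution). -/
theorem Dz_comm {P Q : Sylow 2 G} (hSw : ∃ t : G, orderOf t = 2 ∧ t • P = Q)
    (hI : InvFacts P Q) {d1 d2 : G} (h1 : d1 ∈ Dz P Q) (h2 : d2 ∈ Dz P Q) :
    d1 * d2 = d2 * d1 := by
  obtain ⟨t, ht2, htPQ⟩ := hSw
  have e1 := hI.inv t ht2 htPQ d1 h1
  have e2 := hI.inv t ht2 htPQ d2 h2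
  have e3 := hI.inv t ht2 htPQ (d1 * d2) ((Dz P Q).mul_mem h1 h2)
  have htt : t * t = 1 := invol_sq ht2
  have h : d1⁻¹ * d2⁻¹ = (d1 * d2)⁻¹ := by
    rw [← e1, ← e2, ← e3]
    calc t * d1 * t * (t * d2 * t) = t * d1 * (t * t) * d2 * t := by group
      _ = t * (d1 * d2) * t := by rw [htt]; group
  have h' : (d2 * d1)⁻¹ = (d1 * d2)⁻¹ := by rw [mul_inv_rev]; exact h
  exact (inv_injective h').symm

/-- If `d s d⁻¹ = t` for involutions `s ∈ P`, `t ∈ Q`, then `d • P = Q`. -/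
theorem smul_eq_of_conj_invol (hBF : ∀ R : Sylow 2 G, BasicFacts R) {P Q : Sylow 2 G} {s t d : G}
    (hs : s ∈ (P : Subgroup G)) (ht : t ∈ (Q : Subgroup G)) (ht2 : orderOf t = 2)
    (h : d * s * d⁻¹ = t) : d • P = Q := by
  refine invol_fix_unique hBF ht ht2 ?_
  rw [← mul_smul, ← h]
  have : d * s * d⁻¹ * d = d * s := by group
  rw [this, mul_smul, mem_smul_self hs]

end aux

/-- [NOHALL] -/
theorem pkgNoHall (hB : PkgBasic.{u}) : PkgNoHall.{u} := by
  intro G _ _ hH hBz hZ D hodd hD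
  have hBF : ∀ P : Sylow 2 G, BasicFacts P := fun P => hB hH P
  -- `Cz P = P`
  have hCzle : ∀ P : Sylow 2 G, ∀ x ∈ Cz P, x ∈ (P : Subgroup G) := by
    intro P x hx
    obtain ⟨s, hs, b, hb, rfl⟩ := (hBF P).split x hx
    rw [hBz P, Subgroup.mem_bot] at hb
    rw [hb, mul_one]
    exact hs
  -- an element of `D` lying in a Sylow 2-subgroup is trivial
  have hDodd : ∀ R : Sylow 2 G, ∀ d ∈ D, d ∈ (R : Subgroup G) → d = 1 := by
    intro R d hd hdR
    obtain ⟨k, hk⟩ := R.isPGroup' ⟨d, hdR⟩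
    have hk' : d ^ (2 ^ k) = 1 := by
      have := congrArg Subtype.val hk
      simpa using this
    have h1 : orderOf d ∣ 2 ^ k := orderOf_dvd_of_pow_eq_one hk'
    have h2 : orderOf d ∣ Nat.card D := by
      have := orderOf_dvd_natCard (⟨d, hd⟩ : D)
      rwa [Subgroup.orderOf_mk] at this
    have hcop : Nat.Coprime (2 ^ k) (Nat.card D) :=
      Nat.Coprime.pow_left k (Nat.coprime_two_left.2 hodd)
    have : orderOf d = 1 := Nat.eq_one_of_dvd_coprimes hcop h1 h2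
    exact orderOf_eq_one_iff.1 this
  -- the stabilizer in `D` of a point is abelian
  have hab : ∀ R : Sylow 2 G, ∀ x ∈ D, ∀ y ∈ D, x • R = R → y • R = R → x * y = y * x := by
    intro R x hx y hy hxR hyR
    obtain ⟨R', hR'⟩ := exists_ne_sylow hH R
    have hI := hZ.inv R R' hR'.symm
    obtain ⟨d1, hd1, c1, hc1, hx1⟩ := hI.prod x hxR
    obtain ⟨d2, hd2, c2, hc2, hy1⟩ := hI.prod y hyR
    have hdd : d1 * d2 = d2 * d1 := Dz_comm (hZ.swap R R' hR'.symm).1 hI hd1 hd2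
    have hd1R : d1 • R = R := (mem_Dz.1 hd1).1
    have hd2R : d2 • R = R := (mem_Dz.1 hd2).1
    have hd12R : (d1 * d2) • R = R := by rw [mul_smul, hd2R, hd1R]
    have hd121R : (d1 * d2 * d1⁻¹) • R = R := by
      rw [mul_smul, inv_smul_eq_iff.2 hd1R.symm, hd12R]
    have hmem : x * y * x⁻¹ * y⁻¹ ∈ Cz R := by
      have e : x * y * x⁻¹ * y⁻¹ = (d1 * c1 * d1⁻¹) * ((d1 * d2) * (c2 * c1⁻¹) * (d1 * d2)⁻¹)
          * ((d1 * d2 * d1⁻¹) * c2⁻¹ * (d1 * d2 * d1⁻¹)⁻¹) * (d1 * d2 * d1⁻¹ * d2⁻¹) := by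
        rw [hx1, hy1]; group
      have e' : d1 * d2 * d1⁻¹ * d2⁻¹ = 1 := by rw [hdd]; group
      rw [e, e', mul_one]
      exact (Cz R).mul_mem ((Cz R).mul_mem (conj_mem_Cz (hBF R) hd1R hc1)
        (conj_mem_Cz (hBF R) hd12R ((Cz R).mul_mem hc2 ((Cz R).inv_mem hc1))))
        (conj_mem_Cz (hBF R) hd121R ((Cz R).inv_mem hc2))
    have h1 : x * y * x⁻¹ * y⁻¹ = 1 :=
      hDodd R _ (D.mul_mem (D.mul_mem (D.mul_mem hx hy) (D.inv_mem hx)) (D.inv_mem hy))
        (hCzle R _ hmem)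
    have h2 : x * y * x⁻¹ = y := mul_inv_eq_one.1 h1
    exact mul_inv_eq_iff_eq_mul.1 h2
  -- base point, a non-identity element `x0` of `D` fixing `P`
  obtain ⟨P⟩ : Nonempty (Sylow 2 G) := inferInstance
  obtain ⟨Q0, hQ0⟩ := exists_ne_sylow hH P
  obtain ⟨s, s', hs, hs2, hs', hs'2, hss'⟩ := exists_two_invol (hBF P)
  obtain ⟨x0, hx0D, hx0⟩ := hD s s' hs2 hs'2
  have hx0P : x0 • P = P := smul_eq_of_conj_invol hBF hs hs' hs'2 hx0
  have hx01 : x0 ≠ 1 := by
    rintro rfl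
    apply hss'
    simpa using hx0
  -- `x0` fixes a second point `Q`
  have hI0 := hZ.inv P Q0 hQ0.symm
  obtain ⟨d, hd, c, hc, hdc⟩ := hI0.prod x0 hx0P
  have hd1 : d ≠ 1 := by
    rintro rfl
    rw [one_mul] at hdc
    exact hx01 (hDodd P x0 hx0D (hCzle P x0 (hdc ▸ hc)))
  obtain ⟨y, hy, hyd⟩ := exists_conj_eq_mul (hBF P) hI0 hQ0 (hZ.fix2 P Q0 hQ0.symm) hd hd1 hc
  have hyP : y • P = P := cz_smul hy
  obtain ⟨Q, hQdef⟩ : ∃ Q : Sylow 2 G, Q = y • Q0 := ⟨_, rfl⟩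
  have hQP : Q ≠ P := by
    intro h
    apply hQ0
    have : y • Q0 = y • P := by rw [← hQdef, h, hyP]
    exact smul_left_cancel y this
  have hx0Q : x0 • Q = Q := by
    rw [hdc, ← hyd, hQdef, ← mul_smul]
    have : y * d * y⁻¹ * y = y * d := by group
    rw [this, mul_smul, (mem_Dz.1 hd).2]
  have hx0Dz : x0 ∈ Dz P Q := mem_Dz.2 ⟨hx0P, hx0Q⟩
  have hfix := hZ.fix2 P Q hQP.symm
  -- the stabilizers in `D` of `P` and of `Q` coincide
  have hQtoP : ∀ x ∈ D, x • Q = Q → x • P = P := by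
    intro x hx hxQ
    have hcomm : x * x0 = x0 * x := hab Q x hx x0 hx0D hxQ hx0Q
    have h1 : x0 • (x • P) = x • P := by
      rw [← mul_smul, ← hcomm, mul_smul, hx0P]
    rcases hfix x0 hx0Dz hx01 (x • P) h1 with h | h
    · exact h
    · exfalso
      apply hQP
      have : x • Q = x • P := by rw [h, hxQ]
      exact smul_left_cancel x this
  -- an element of `D` moving `P` to `Q`
  obtain ⟨t, t', ht, ht2, -, -, -⟩ := exists_two_invol (hBF Q)
  obtain ⟨g, hgD, hg⟩ := hD s t hs2 ht2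
  have hgP : g • P = Q := smul_eq_of_conj_invol hBF hs ht ht2 hg
  -- `x1 = g x0 g⁻¹` fixes `Q`, hence `P`
  have hx1D : g * x0 * g⁻¹ ∈ D := D.mul_mem (D.mul_mem hgD hx0D) (D.inv_mem hgD)
  have hx1Q : (g * x0 * g⁻¹) • Q = Q := by
    rw [← hgP, ← mul_smul]
    have : g * x0 * g⁻¹ * g = g * x0 := by group
    rw [this, mul_smul, hx0P]
  have hx1P : (g * x0 * g⁻¹) • P = P := hQtoP _ hx1D hx1Q
  have hx11 : g * x0 * g⁻¹ ≠ 1 := by
    intro h
    apply hx01
    have : x0 = g⁻¹ * (g * x0 * g⁻¹) * g := by group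
    rw [this, h]; group
  have hx1fix : (g * x0 * g⁻¹) • (g • Q) = g • Q := by
    rw [← mul_smul]
    have : g * x0 * g⁻¹ * g = g * x0 := by group
    rw [this, mul_smul, hx0Q]
  have hgQ : g • Q = P := by
    rcases hfix _ (mem_Dz.2 ⟨hx1P, hx1Q⟩) hx11 (g • Q) hx1fix with h | h
    · exact h
    · exfalso
      apply hQP
      have : g • Q = g • P := by rw [h, hgP]
      exact smul_left_cancel g this
  have hggP : (g * g) • P = P := by rw [mul_smul, hgP, hgQ]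
  -- `g` has odd order, so `g` fixes `P`
  have hgord : orderOf g ∣ Nat.card D := by
    have := orderOf_dvd_natCard (⟨g, hgD⟩ : D)
    rwa [Subgroup.orderOf_mk] at this
  obtain ⟨j, hj⟩ : Odd (orderOf g) := Odd.of_dvd_nat hodd hgord
  have hgpow : g = (g * g) ^ (j + 1) := by
    rw [← pow_two, ← pow_mul]
    have : 2 * (j + 1) = orderOf g + 1 := by omega
    rw [this, pow_succ, pow_orderOf_eq_one, one_mul]
  have hmem : (g * g) ^ (j + 1) ∈ MulAction.stabilizer G P :=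
    Subgroup.pow_mem _ (MulAction.mem_stabilizer_iff.2 hggP) _
  rw [← hgpow, MulAction.mem_stabilizer_iff, hgP] at hmem
  exact hQP hmem

end Cfsg.Agent.Lib.Helper77.CAI
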